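import Mathlib.Algebra.Lie.Basis.Base
import Mathlib.Algebra.Lie.Semisimple.Defs
import Mathlib.Algebra.Lie.CartanCriterion
import Mathlib.Algebra.Lie.Weights.Killing
import Mathlib.FieldTheory.IsAlgClosed.Basic

/-!
# Highest weight vectors of the adjoint representation and Borel-stable subspaces
-/

set_option autoImplicit false
set_option maxHeartbeats 1000000
set_option linter.unusedSectionVars false

universe u v w

open LieAlgebra LieModule

namespace Groth.Agent.AdjVarLib

variable {ι : Type u} {K : Type v} {L : Type w} [Fintype ι] [Field K] [CharZero K]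
  [IsAlgClosed K] [LieRing L] [LieAlgebra K L] [FiniteDimensional K L] [LieAlgebra.IsSimple K L]
  (H : LieSubalgebra K L) [H.IsCartanSubalgebra] (b : LieAlgebra.Basis ι H)

theorem mem_rootSpace_iff (χ : H → K) (x : L) :
    x ∈ rootSpace H χ ↔ ∀ h : H, ⁅(h : L), x⁆ = χ h • x :=
  ⟨fun hx h => LieAlgebra.IsKilling.lie_eq_smul_of_mem_rootSpace hx h,
    fun hx => weightSpace_le_genWeightSpace L χ ((mem_weightSpace χ x).2 hx)⟩

theorem lie_mem {χ ψ : H → K} {x y : L} (hx : x ∈ rootSpace H χ) (hy : y ∈ rootSpace H ψ) :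
    ⁅x, y⁆ ∈ rootSpace H (χ + ψ) := by
  rw [mem_rootSpace_iff] at hx hy ⊢
  intro h
  rw [leibniz_lie, hx, hy, smul_lie, lie_smul, ← add_smul]
  rfl

theorem e_mem (i : ι) : b.e i ∈ rootSpace H ⇑(b.baseSupp i) :=
  (mem_rootSpace_iff H _ _).2 fun h => (b.baseSupp_apply_smul_e i h).symm

theorem f_mem (i : ι) : b.f i ∈ rootSpace H ⇑(-b.baseSupp i) :=
  (mem_rootSpace_iff H _ _).2 fun h => by
    rw [LinearMap.neg_apply, neg_smul, b.baseSupp_apply_smul_f, neg_neg]
    rfl

/-- The word in the `f i` applied to `v`. -/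
def word (v : L) (l : List ι) : L := l.foldr (fun i x => ⁅b.f i, x⁆) v

/-- The sum of the simple roots of a word. -/
noncomputable def lsum (l : List ι) : Module.Dual K H := (l.map b.baseSupp).sum

theorem word_mem {v : L} {μ : H → K} (hv : v ∈ rootSpace H μ) (l : List ι) :
    word H b v l ∈ rootSpace H (μ - ⇑(lsum H b l)) := by
  induction l with
  | nil =>
    rw [show (μ - ⇑(lsum H b []) : H → K) = μ from funext fun h => by simp [lsum]]
    exact hv
  | cons i l ih =>
    have h := lie_mem H (f_mem H b i) ih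
    have e : (⇑(-b.baseSupp i) : H → K) + (μ - ⇑(lsum H b l)) = μ - ⇑(lsum H b (i :: l)) := by
      funext h
      simp only [lsum, List.map_cons, List.sum_cons, Pi.add_apply, Pi.sub_apply, LinearMap.add_apply,
        LinearMap.neg_apply]
      ring
    rw [e] at h
    exact h

theorem lsum_eq_sum [DecidableEq ι] (l : List ι) :
    lsum H b l = ∑ i, ((l.count i : ℕ) : K) • b.baseSupp i := by
  induction l with
  | nil => simp [lsum]
  | cons j l ih =>
    rw [lsum, List.map_cons, List.sum_cons, ← lsum, ih]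
    simp only [List.count_cons, Nat.cast_add, add_smul, Finset.sum_add_distrib]
    rw [add_comm]
    congr 1
    simp [beq_iff_eq, Nat.cast_ite, ite_smul]

theorem perm_of_lsum_eq {l l' : List ι} (h : lsum H b l = lsum H b l') : l.Perm l' := by
  classical
  rw [List.perm_iff_count]
  intro i
  rw [lsum_eq_sum, lsum_eq_sum] at h
  exact Nat.cast_injective (R := K) (Fintype.linearIndependent_iffₛ.1 b.linearIndependent_baseSupp
    (fun i => ((l.count i : ℕ) : K)) (fun i => ((l'.count i : ℕ) : K)) h i)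

theorem lsum_inj {μ : H → K} {l l' : List ι}
    (h : μ - ⇑(lsum H b l) = μ - ⇑(lsum H b l')) : l.Perm l' :=
  perm_of_lsum_eq H b (DFunLike.coe_injective (sub_right_inj.1 h))

/-- The words span `L`. -/
theorem span_word {v : L} {μ : H → K} (hv : v ∈ rootSpace H μ) (hv0 : v ≠ 0)
    (he : ∀ i, ⁅b.e i, v⁆ = 0) : Submodule.span K (Set.range (word H b v)) = ⊤ := by
  let S : Submodule K L := Submodule.span K (Set.range (word H b v))
  have hf : ∀ i, ∀ x ∈ S, ⁅b.f i, x⁆ ∈ S := by
    intro i x hx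
    induction hx using Submodule.span_induction with
    | mem y hy =>
      obtain ⟨l, rfl⟩ := hy
      exact Submodule.subset_span ⟨i :: l, rfl⟩
    | zero => rw [lie_zero]; exact S.zero_mem
    | add y z _ _ hy hz => rw [lie_add]; exact S.add_mem hy hz
    | smul c y _ hy => rw [lie_smul]; exact S.smul_mem c hy
  have hel : ∀ (i : ι) (l : List ι), ⁅b.e i, word H b v l⁆ ∈ S := by
    intro i l
    induction l with
    | nil => rw [show word H b v [] = v from rfl, he i]; exact S.zero_mem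
    | cons j l ih =>
      rw [show word H b v (j :: l) = ⁅b.f j, word H b v l⁆ from rfl, leibniz_lie]
      refine S.add_mem ?_ (hf j _ ih)
      by_cases hij : i = j
      · subst hij
        rw [(b.sl2 i).lie_e_f, show b.h i = ((b.h' i : H) : L) from rfl,
          (mem_rootSpace_iff H _ _).1 (word_mem H b hv l)]
        exact S.smul_mem _ (Submodule.subset_span ⟨l, rfl⟩)
      · rw [b.lie_e_f_ne i j hij, zero_lie]
        exact S.zero_mem
  have hE : ∀ i, ∀ x ∈ S, ⁅b.e i, x⁆ ∈ S := by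
    intro i x hx
    induction hx using Submodule.span_induction with
    | mem y hy =>
      obtain ⟨l, rfl⟩ := hy
      exact hel i l
    | zero => rw [lie_zero]; exact S.zero_mem
    | add y z _ _ hy hz => rw [lie_add]; exact S.add_mem hy hz
    | smul c y _ hy => rw [lie_smul]; exact S.smul_mem c hy
  have hall : ∀ a : L, ∀ x ∈ S, ⁅a, x⁆ ∈ S := by
    intro a
    have ha : a ∈ LieSubalgebra.lieSpan K L (Set.range b.e ∪ Set.range b.f) := by
      rw [b.span_ef]; trivial
    induction ha using LieSubalgebra.lieSpan_induction with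
    | mem y hy =>
      rcases hy with ⟨i, rfl⟩ | ⟨i, rfl⟩
      · exact hE i
      · exact hf i
    | zero => intro x _; rw [zero_lie]; exact S.zero_mem
    | add y z _ _ hy hz => intro x hx; rw [add_lie]; exact S.add_mem (hy x hx) (hz x hx)
    | smul c y _ hy => intro x hx; rw [smul_lie]; exact S.smul_mem c (hy x hx)
    | lie y z _ _ hy hz =>
      intro x hx
      rw [lie_lie]
      exact S.sub_mem (hy _ (hz x hx)) (hz _ (hy x hx))
  let I : LieIdeal K L := { S with lie_mem := fun {a x} hx => hall a x hx }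
  rcases LieAlgebra.IsSimple.eq_bot_or_eq_top I with h | h
  · refine absurd ?_ hv0
    have hmem : v ∈ I := (Submodule.subset_span ⟨[], rfl⟩ : v ∈ S)
    rw [h] at hmem
    exact hmem
  · exact congrArg (fun J : LieIdeal K L => J.toSubmodule) h

/-- A weight space is spanned by the words of that weight. -/
theorem rootSpace_le_span {v : L} {μ : H → K} (hv : v ∈ rootSpace H μ) (hv0 : v ≠ 0)
    (he : ∀ i, ⁅b.e i, v⁆ = 0) (χ : H → K) :
    (rootSpace H χ : Submodule K L) ≤
      Submodule.span K (word H b v '' {l | μ - ⇑(lsum H b l) = χ}) := by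
  intro x hx
  have htop : x ∈ Submodule.span K (word H b v '' {l | μ - ⇑(lsum H b l) = χ} ∪
      word H b v '' {l | μ - ⇑(lsum H b l) ≠ χ}) := by
    rw [← Set.image_union, show ({l | μ - ⇑(lsum H b l) = χ} ∪ {l | μ - ⇑(lsum H b l) ≠ χ}) =
      Set.univ from Set.eq_univ_of_forall fun l => em _, Set.image_univ, span_word H b hv hv0 he]
    trivial
  rw [Submodule.span_union] at htop
  obtain ⟨p, hp, q, hq, rfl⟩ := Submodule.mem_sup.1 htop
  have hp' : p ∈ (rootSpace H χ : Submodule K L) := by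
    refine (Submodule.span_le.2 ?_ : _ ≤ (rootSpace H χ : Submodule K L)) hp
    rintro _ ⟨l, hl, rfl⟩
    exact hl ▸ word_mem H b hv l
  have hq1 : q ∈ rootSpace H χ := by
    have := (rootSpace H χ : Submodule K L).sub_mem hx hp'
    rw [add_sub_cancel_left] at this
    exact this
  have hq2 : q ∈ ⨆ (ψ : H → K) (_ : ψ ≠ χ), rootSpace H ψ := by
    have hle : Submodule.span K (word H b v '' {l | μ - ⇑(lsum H b l) ≠ χ}) ≤
        (⨆ (ψ : H → K) (_ : ψ ≠ χ), rootSpace H ψ : LieSubmodule K H L).toSubmodule := by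
      refine Submodule.span_le.2 ?_
      rintro _ ⟨l, hl, rfl⟩
      exact LieSubmodule.mem_iSup_of_mem (μ - ⇑(lsum H b l))
        (LieSubmodule.mem_iSup_of_mem hl (word_mem H b hv l))
    exact hle hq
  have h0 : q ∈ (⊥ : LieSubmodule K H L) :=
    (LieModule.iSupIndep_genWeightSpace K H L χ).le_bot ⟨hq1, hq2⟩
  rw [(LieSubmodule.mem_bot q).1 h0, add_zero]
  exact hp

/-- A nonzero weight space has the weight of some word. -/
theorem exists_lsum {v : L} {μ : H → K} (hv : v ∈ rootSpace H μ) (hv0 : v ≠ 0)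
    (he : ∀ i, ⁅b.e i, v⁆ = 0) {χ : H → K} {x : L} (hx : x ∈ rootSpace H χ) (hx0 : x ≠ 0) :
    ∃ l : List ι, μ - ⇑(lsum H b l) = χ := by
  by_contra h
  have h' := rootSpace_le_span H b hv hv0 he χ hx
  rw [show {l | μ - ⇑(lsum H b l) = χ} = (∅ : Set (List ι)) from
    Set.eq_empty_iff_forall_notMem.2 fun l hl => h ⟨l, hl⟩, Set.image_empty, Submodule.span_empty,
    Submodule.mem_bot] at h'
  exact hx0 h'

/-- Vectors killed by every `e i` are multiples of the highest root vector. -/
theorem mem_span_highest {x₀ : L} {ρ : H → K} (hx₀ : x₀ ∈ rootSpace H ρ) (hx₀0 : x₀ ≠ 0)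
    (he₀ : ∀ i, ⁅b.e i, x₀⁆ = 0) {v : L} {μ : H → K} (hv : v ∈ rootSpace H μ)
    (he : ∀ i, ⁅b.e i, v⁆ = 0) : v ∈ K ∙ x₀ := by
  by_cases hv0 : v = 0
  · rw [hv0]; exact Submodule.zero_mem _
  obtain ⟨l, hl⟩ := exists_lsum H b hv hv0 he hx₀ hx₀0
  obtain ⟨l', hl'⟩ := exists_lsum H b hx₀ hx₀0 he₀ hv hv0
  have hp : (l' ++ l).Perm [] := by
    refine lsum_inj H b (μ := ρ) ?_
    funext h
    simp only [lsum, List.map_append, List.sum_append, List.map_nil, List.sum_nil, Pi.sub_apply,
      LinearMap.add_apply, LinearMap.zero_apply, sub_zero]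
    have e1 := congrFun hl h
    have e2 := congrFun hl' h
    simp only [lsum, Pi.sub_apply] at e1 e2
    linear_combination e1 + e2
  have hnil : l' = [] := (List.append_eq_nil_iff.1 hp.eq_nil).1
  subst hnil
  have hμ : μ = ρ := by
    rw [← hl']
    funext h
    simp [lsum]
  subst hμ
  refine (Submodule.span_le.2 ?_ : _ ≤ K ∙ x₀) (rootSpace_le_span H b hx₀ hx₀0 he₀ μ hv)
  rintro _ ⟨m, hm, rfl⟩
  have : m = [] := (lsum_inj H b (μ := μ) (l' := [])
    (hm.trans (by funext h; simp [lsum]))).eq_nil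
  subst this
  exact Submodule.mem_span_singleton_self x₀

/-- A nonzero stable subspace has weight vectors outside every smaller subspace. -/
theorem exists_weight_vector (W : Submodule K L) (hst : ∀ h : H, ∀ w ∈ W, ⁅(h : L), w⁆ ∈ W)
    (W' : Submodule K L) (hne : ¬ W ≤ W') :
    ∃ (χ : H → K) (x : L), x ∈ W ∧ x ∈ rootSpace H χ ∧ x ∉ W' := by
  by_contra hcon
  let N : LieSubmodule K H L := { W with lie_mem := fun {h w} hw => hst h w hw }
  refine hne fun w hw => ?_
  have htop : (⟨w, hw⟩ : N) ∈ ⨆ χ : H → K, genWeightSpace N χ := by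
    rw [LieModule.iSup_genWeightSpace_eq_top K H N]; trivial
  refine LieSubmodule.iSup_induction' (fun χ : H → K => genWeightSpace N χ)
    (motive := fun n _ => (n : L) ∈ W') (fun χ n hn => ?_) W'.zero_mem
    (fun a c _ _ ha hc => W'.add_mem ha hc) htop
  by_contra hn'
  exact hcon ⟨χ, (n : L), n.2, map_genWeightSpace_le N.incl ⟨n, hn, rfl⟩, hn'⟩

/-- A topmost weight vector outside a smaller subspace. -/
theorem exists_top {x₀ : L} {ρ : H → K} (hx₀ : x₀ ∈ rootSpace H ρ) (hx₀0 : x₀ ≠ 0)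
    (he₀ : ∀ i, ⁅b.e i, x₀⁆ = 0) (W : Submodule K L)
    (hst : ∀ h : H, ∀ w ∈ W, ⁅(h : L), w⁆ ∈ W) (hste : ∀ i, ∀ w ∈ W, ⁅b.e i, w⁆ ∈ W)
    (W' : Submodule K L) (hne : ¬ W ≤ W') :
    ∃ (l : List ι) (x : L), x ∈ W ∧ x ∈ rootSpace H (ρ - ⇑(lsum H b l)) ∧ x ∉ W' ∧
      ∀ i, ⁅b.e i, x⁆ ∈ W' := by
  have hex : ∃ n, ∃ (l : List ι) (x : L), l.length = n ∧ x ∈ W ∧
      x ∈ rootSpace H (ρ - ⇑(lsum H b l)) ∧ x ∉ W' := by
    obtain ⟨χ, x, hxW, hx, hx'⟩ := exists_weight_vector H W hst W' hne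
    obtain ⟨l, hl⟩ := exists_lsum H b hx₀ hx₀0 he₀ hx fun h => hx' (h ▸ W'.zero_mem)
    exact ⟨_, l, x, rfl, hxW, hl ▸ hx, hx'⟩
  classical
  obtain ⟨l, x, hlen, hxW, hx, hx'⟩ := Nat.find_spec hex
  refine ⟨l, x, hxW, hx, hx', fun i => ?_⟩
  by_contra hi
  have hi2 := lie_mem H (e_mem H b i) hx
  obtain ⟨l', hl'⟩ := exists_lsum H b hx₀ hx₀0 he₀ hi2 fun h => hi (h ▸ W'.zero_mem)
  have hp : (i :: l').Perm l := by
    refine lsum_inj H b (μ := ρ) ?_
    funext h
    have e := congrFun hl' h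
    simp only [lsum, List.map_cons, List.sum_cons, Pi.sub_apply, Pi.add_apply, LinearMap.add_apply] at e ⊢
    linear_combination e
  have hlt : l'.length < Nat.find hex := by
    rw [← hlen, ← hp.length_eq]
    exact Nat.lt_succ_self _
  exact Nat.find_min hex hlt ⟨l', _, rfl, hste i x hxW, hl' ▸ hi2, hi⟩

end Groth.Agent.AdjVarLib
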