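import Groth.Agent.AdjVarLib.Basic

/-!
# The configuration at the top of the adjoint representation
-/

set_option autoImplicit false
set_option maxHeartbeats 1000000
set_option linter.unusedSectionVars false

universe u v w

open LieAlgebra LieModule

namespace Groth.Agent.AdjVarLib

variable {ι : Type u} {K : Type v} {L : Type w} [Fintype ι] [Field K] [CharZero K]
  [IsAlgClosed K] [LieRing L] [LieAlgebra K L] [FiniteDimensional K L] [LieAlgebra.IsSimple K L]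
  (H : LieSubalgebra K L) [H.IsCartanSubalgebra] (b : LieAlgebra.Basis ι H)
  (ρ : Module.Dual K H) (j : ι)

/-- The hypotheses on the highest root, with its root vector. -/
structure Top (x₀ : L) : Prop where
  mem : x₀ ∈ rootSpace H ⇑ρ
  ne : x₀ ≠ 0
  e_x₀ : ∀ i, ⁅b.e i, x₀⁆ = 0
  h_zero : ∀ i, i ≠ j → ρ (b.h' i) = 0
  h_one : ρ (b.h' j) = 1

theorem exists_top_data (hρ : rootSpace H ⇑ρ ≠ ⊥) (htop : ∀ i, rootSpace H ⇑(ρ + b.baseSupp i) = ⊥)
    (hN : ∀ i, ρ (b.h' i) ≠ 0 ↔ i = j) (hj : ρ (b.h' j) = 1) : ∃ x₀, Top H b ρ j x₀ := by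
  obtain ⟨x₀, hx₀, hne⟩ : ∃ x, x ∈ rootSpace H ⇑ρ ∧ x ≠ 0 := by
    by_contra h
    exact hρ ((LieSubmodule.eq_bot_iff _).2 fun x hx => not_not.1 fun hx0 => h ⟨x, hx, hx0⟩)
  refine ⟨x₀, hx₀, hne, fun i => ?_, fun i hi => not_not.1 fun h => hi ((hN i).1 h), hj⟩
  have h := lie_mem H (e_mem H b i) hx₀
  rw [show (⇑(b.baseSupp i) + ⇑ρ : H → K) = ⇑(ρ + b.baseSupp i) from funext fun h => add_comm _ _,
    htop i] at h
  exact (LieSubmodule.mem_bot _).1 h

variable {H b ρ j} {x₀ : L} (T : Top H b ρ j x₀)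
include T

theorem Top.lie_h (i : ι) : ⁅b.h i, x₀⁆ = ρ (b.h' i) • x₀ :=
  (mem_rootSpace_iff H _ _).1 T.mem (b.h' i)

theorem Top.span_eq : (rootSpace H ⇑ρ : Submodule K L) = K ∙ x₀ := by
  refine le_antisymm ((rootSpace_le_span H b T.mem T.ne T.e_x₀ _).trans (Submodule.span_le.2 ?_))
    ((Submodule.span_singleton_le_iff_mem _ _).2 T.mem)
  rintro _ ⟨l, hl, rfl⟩
  have : l = [] := (lsum_inj H b (μ := ⇑ρ) (l' := [])
    (hl.trans (by funext h; simp [lsum]))).eq_nil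
  subst this
  exact Submodule.mem_span_singleton_self x₀

theorem Top.primitive (i : ι) : (b.sl2 i).HasPrimitiveVectorWith x₀ (ρ (b.h' i)) :=
  ⟨T.ne, T.lie_h i, T.e_x₀ i⟩

theorem Top.f_x₀ {i : ι} (hi : i ≠ j) : ⁅b.f i, x₀⁆ = 0 := by
  have h := (T.primitive i).pow_toEnd_f_eq_zero_of_eq_nat (n := 0) (by rw [T.h_zero i hi, Nat.cast_zero])
  simpa using h

theorem Top.e_y : ⁅b.e j, ⁅b.f j, x₀⁆⁆ = x₀ := by
  rw [leibniz_lie, (b.sl2 j).lie_e_f, T.lie_h, T.e_x₀, lie_zero, add_zero, T.h_one, one_smul]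

theorem Top.e_y_ne {i : ι} (hi : i ≠ j) : ⁅b.e i, ⁅b.f j, x₀⁆⁆ = 0 := by
  rw [leibniz_lie, b.lie_e_f_ne i j hi, zero_lie, T.e_x₀, lie_zero, add_zero]

theorem Top.y_notMem : ⁅b.f j, x₀⁆ ∉ K ∙ x₀ := fun h => by
  obtain ⟨c, hc⟩ := Submodule.mem_span_singleton.1 h
  refine T.ne ?_
  have := T.e_y
  rw [← hc, lie_smul, T.e_x₀, smul_zero] at this
  exact this.symm

theorem Top.f_f_x₀ : ⁅b.f j, ⁅b.f j, x₀⁆⁆ = 0 := by
  have h := (T.primitive j).pow_toEnd_f_eq_zero_of_eq_nat (n := 1) (by rw [T.h_one, Nat.cast_one])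
  simpa [pow_succ] using h

theorem Top.y_mem : ⁅b.f j, x₀⁆ ∈ rootSpace H ⇑(ρ - b.baseSupp j) := by
  have h := word_mem H b T.mem [j]
  rw [show (⇑ρ - ⇑(lsum H b [j]) : H → K) = ⇑(ρ - b.baseSupp j) from
    funext fun h => by simp [lsum]] at h
  exact h

theorem Top.span_y_eq : (rootSpace H ⇑(ρ - b.baseSupp j) : Submodule K L) = K ∙ ⁅b.f j, x₀⁆ := by
  refine le_antisymm ((rootSpace_le_span H b T.mem T.ne T.e_x₀ _).trans (Submodule.span_le.2 ?_))
    ((Submodule.span_singleton_le_iff_mem _ _).2 T.y_mem)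
  rintro _ ⟨l, hl, rfl⟩
  have : l = [j] := List.perm_singleton.1 (lsum_inj H b (μ := ⇑ρ) (l' := [j])
    (hl.trans (by funext h; simp [lsum])))
  subst this
  exact Submodule.mem_span_singleton_self _

omit T in
theorem stable_of_generators (W : Submodule K L)
    (hh : ∀ h : H, ∀ w ∈ W, ⁅(h : L), w⁆ ∈ W) (he : ∀ i, ∀ w ∈ W, ⁅b.e i, w⁆ ∈ W) :
    ∀ x ∈ H.toSubmodule ⊔ (b.borelUpper : Submodule K L), ∀ w ∈ W, ⁅x, w⁆ ∈ W := by
  intro x hx w hw
  obtain ⟨a, ha, c, hc, rfl⟩ := Submodule.mem_sup.1 hx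
  rw [add_lie]
  refine W.add_mem (hh ⟨a, ha⟩ w hw) ?_
  have hc' : c ∈ LieSubalgebra.lieSpan K L (Set.range b.e) := hc
  clear hc hx
  induction hc' using LieSubalgebra.lieSpan_induction generalizing w with
  | mem y hy =>
    obtain ⟨i, rfl⟩ := hy
    exact he i w hw
  | zero => rw [zero_lie]; exact W.zero_mem
  | add y z _ _ hy hz => rw [add_lie]; exact W.add_mem (hy w hw) (hz w hw)
  | smul r y _ hy => rw [smul_lie]; exact W.smul_mem r (hy w hw)
  | lie y z _ _ hy hz =>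
    rw [lie_lie]
    exact W.sub_mem (hy _ (hz w hw)) (hz _ (hy w hw))

omit T in
theorem generators_of_stable {W : Submodule K L}
    (hst : ∀ x ∈ H.toSubmodule ⊔ (b.borelUpper : Submodule K L), ∀ w ∈ W, ⁅x, w⁆ ∈ W) :
    (∀ h : H, ∀ w ∈ W, ⁅(h : L), w⁆ ∈ W) ∧ ∀ i, ∀ w ∈ W, ⁅b.e i, w⁆ ∈ W :=
  ⟨fun h => hst h (Submodule.mem_sup_left h.2), fun i => hst (b.e i)
    (Submodule.mem_sup_right (LieSubalgebra.subset_lieSpan ⟨i, rfl⟩ : b.e i ∈ LieSubalgebra.lieSpan K L (Set.range b.e)))⟩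

/-- A stable subspace which is more than a line contains the stable line. -/
theorem Top.pair_mem {W : Submodule K L}
    (hst : ∀ x ∈ H.toSubmodule ⊔ (b.borelUpper : Submodule K L), ∀ w ∈ W, ⁅x, w⁆ ∈ W)
    (hW : 1 < Module.finrank K W) : x₀ ∈ W ∧ ⁅b.f j, x₀⁆ ∈ W := by
  obtain ⟨hh, he⟩ := generators_of_stable hst
  have hne : ∀ S : Submodule K L, Module.finrank K S ≤ 1 → ¬ W ≤ S := fun S hS hle =>
    absurd ((Submodule.finrank_mono hle).trans hS) (not_le.2 hW)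
  obtain ⟨l, x, hxW, hx, hxb, hxe⟩ := exists_top H b T.mem T.ne T.e_x₀ W hh he ⊥
    (hne ⊥ (by simp))
  have hx0 := mem_span_highest H b T.mem T.ne T.e_x₀ hx fun i => (Submodule.mem_bot K).1 (hxe i)
  obtain ⟨c, rfl⟩ := Submodule.mem_span_singleton.1 hx0
  have hc : c ≠ 0 := fun h => hxb (by rw [h, zero_smul]; exact Submodule.zero_mem _)
  have hx₀W : x₀ ∈ W := (Submodule.smul_mem_iff W hc).1 hxW
  refine ⟨hx₀W, ?_⟩
  obtain ⟨l, x, hxW, hx, hxb, hxe⟩ := exists_top H b T.mem T.ne T.e_x₀ W hh he (K ∙ x₀)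
    (hne _ (finrank_span_singleton T.ne).le)
  obtain ⟨i, hi⟩ : ∃ i, ⁅b.e i, x⁆ ≠ 0 := by
    by_contra h
    exact hxb (mem_span_highest H b T.mem T.ne T.e_x₀ hx fun i => not_not.1 fun hi => h ⟨i, hi⟩)
  obtain ⟨d, hd⟩ := Submodule.mem_span_singleton.1 (hxe i)
  have hmem := lie_mem H (e_mem H b i) hx
  rw [← hd] at hmem hi
  obtain ⟨hd0, -⟩ := smul_ne_zero_iff.1 hi
  have heq : ⇑(b.baseSupp i) + (⇑ρ - ⇑(lsum H b l)) = ⇑ρ := by
    funext h
    have h1 := (mem_rootSpace_iff H _ _).1 hmem h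
    have h2 := (mem_rootSpace_iff H _ _).1 T.mem h
    rw [lie_smul, h2, smul_smul, smul_smul] at h1
    exact mul_right_cancel₀ hd0 (((smul_left_injective K T.ne) h1).symm.trans (mul_comm _ _))
  have hl : l = [i] := List.perm_singleton.1 (lsum_inj H b (μ := ⇑ρ) (l' := [i]) (by
    funext h
    have := congrFun heq h
    simp only [lsum, Pi.add_apply, Pi.sub_apply, List.map_cons, List.sum_cons, List.map_nil,
      List.sum_nil, LinearMap.add_apply, LinearMap.zero_apply] at this ⊢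
    linear_combination this))
  subst hl
  have hsp : x ∈ K ∙ ⁅b.f i, x₀⁆ := by
    refine (Submodule.span_le.2 ?_ : _ ≤ K ∙ ⁅b.f i, x₀⁆)
      (rootSpace_le_span H b T.mem T.ne T.e_x₀ _ hx)
    rintro _ ⟨m, hm, rfl⟩
    have : m = [i] := List.perm_singleton.1 (lsum_inj H b hm)
    subst this
    exact Submodule.mem_span_singleton_self _
  obtain ⟨r, rfl⟩ := Submodule.mem_span_singleton.1 hsp
  by_cases hij : i = j
  · subst hij
    have hr : r ≠ 0 := fun h => hxb (by rw [h, zero_smul]; exact Submodule.zero_mem _)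
    exact (Submodule.smul_mem_iff W hr).1 hxW
  · exact absurd (by rw [T.f_x₀ hij, smul_zero]; exact Submodule.zero_mem _) hxb

/-- The shape of a stable three dimensional subspace. -/
theorem Top.triple {W : Submodule K L}
    (hst : ∀ x ∈ H.toSubmodule ⊔ (b.borelUpper : Submodule K L), ∀ w ∈ W, ⁅x, w⁆ ∈ W)
    (hW : Module.finrank K W = 3) :
    ∃ (i : ι) (z : L) (c : K), i ≠ j ∧ b.A i j ≠ 0 ∧ c ≠ 0 ∧ z ∈ W ∧
      LinearIndependent K ![x₀, ⁅b.f j, x₀⁆, z] ∧
      W = Submodule.span K (Set.range ![x₀, ⁅b.f j, x₀⁆, z]) ∧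
      (rootSpace H ⇑(ρ - b.baseSupp j - b.baseSupp i) : Submodule K L) = K ∙ z ∧
      ⁅b.e j, z⁆ = 0 ∧ ⁅b.e i, z⁆ = c • ⁅b.f j, x₀⁆ := by
  obtain ⟨hh, he⟩ := generators_of_stable hst
  obtain ⟨hxW, hyW⟩ := T.pair_mem hst (by omega)
  let W' : Submodule K L := Submodule.span K (Set.range ![x₀, ⁅b.f j, x₀⁆])
  have hli : LinearIndependent K ![x₀, ⁅b.f j, x₀⁆] :=
    (LinearIndependent.pair_iff' T.ne).2 fun a h => T.y_notMem (Submodule.mem_span_singleton.2 ⟨a, h⟩)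
  have hne : ¬ W ≤ W' := fun hle => by
    have := Submodule.finrank_mono hle
    rw [hW, finrank_span_eq_card hli, Fintype.card_fin] at this
    omega
  obtain ⟨l, z, hzW, hz, hzb, hze⟩ := exists_top H b T.mem T.ne T.e_x₀ W hh he W' hne
  have hxW' : x₀ ∈ W' := Submodule.subset_span ⟨0, rfl⟩
  obtain ⟨i, hi⟩ : ∃ i, ⁅b.e i, z⁆ ≠ 0 := by
    by_contra h
    exact hzb ((Submodule.span_singleton_le_iff_mem _ _).2 hxW'
      (mem_span_highest H b T.mem T.ne T.e_x₀ hz fun i => not_not.1 fun hi => h ⟨i, hi⟩))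
  have hmem := lie_mem H (e_mem H b i) hz
  obtain ⟨a, hdec⟩ := (Submodule.mem_span_range_iff_exists_fun K).1 (hze i)
  rw [Fin.sum_univ_two] at hdec
  change a 0 • x₀ + a 1 • ⁅b.f j, x₀⁆ = _ at hdec
  have key : ∀ h : H, a 0 * (ρ h - (b.baseSupp i h + (ρ h - lsum H b l h))) = 0 ∧
      a 1 * ((ρ h - b.baseSupp j h) - (b.baseSupp i h + (ρ h - lsum H b l h))) = 0 := by
    intro h
    have h1 := (mem_rootSpace_iff H _ _).1 hmem h
    rw [← hdec, lie_add, lie_smul, lie_smul, (mem_rootSpace_iff H _ _).1 T.mem h,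
      (mem_rootSpace_iff H _ _).1 T.y_mem h] at h1
    have h2 : (a 0 * (ρ h - (b.baseSupp i h + (ρ h - lsum H b l h)))) • x₀ +
        (a 1 * ((ρ h - b.baseSupp j h) - (b.baseSupp i h + (ρ h - lsum H b l h)))) • ⁅b.f j, x₀⁆ = 0 := by
      simp only [Pi.add_apply, Pi.sub_apply, LinearMap.sub_apply, smul_smul, smul_add] at h1
      rw [← sub_eq_zero] at h1
      refine Eq.trans ?_ h1
      module
    exact LinearIndependent.pair_iff.1 hli _ _ h2
  have ha0 : a 0 = 0 := by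
    by_contra ha
    have hl : l = [i] := List.perm_singleton.1 (perm_of_lsum_eq H b (l' := [i])
      (LinearMap.ext fun h => by
        have := (mul_eq_zero.1 (key h).1).resolve_left ha
        simp only [lsum, List.map_cons, List.sum_cons, List.map_nil, List.sum_nil, LinearMap.add_apply,
          LinearMap.zero_apply] at this ⊢
        linear_combination this))
    subst hl
    refine hzb ((Submodule.span_le.2 ?_ : _ ≤ W') (rootSpace_le_span H b T.mem T.ne T.e_x₀ _ hz))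
    rintro _ ⟨m, hm, rfl⟩
    have : m = [i] := List.perm_singleton.1 (lsum_inj H b hm)
    subst this
    by_cases hij : i = j
    · subst hij; exact Submodule.subset_span ⟨1, rfl⟩
    · change ⁅b.f i, x₀⁆ ∈ W'
      rw [T.f_x₀ hij]; exact W'.zero_mem
  rw [ha0, zero_smul, zero_add] at hdec
  have ha1 : a 1 ≠ 0 := fun h => hi (by rw [← hdec, h, zero_smul])
  have hp : l.Perm [i, j] := perm_of_lsum_eq H b (LinearMap.ext fun h => by
    have := (mul_eq_zero.1 (key h).2).resolve_left ha1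
    simp only [lsum, List.map_cons, List.sum_cons, List.map_nil, List.sum_nil, LinearMap.add_apply,
      LinearMap.zero_apply] at this ⊢
    linear_combination this)
  have hsp : ∀ {x : L}, x ∈ rootSpace H (⇑ρ - ⇑(lsum H b [i, j])) → x ∈ K ∙ ⁅b.f i, ⁅b.f j, x₀⁆⁆ := by
    intro x hx
    refine (Submodule.span_le.2 ?_ : _ ≤ K ∙ ⁅b.f i, ⁅b.f j, x₀⁆⁆)
      (rootSpace_le_span H b T.mem T.ne T.e_x₀ _ hx)
    rintro _ ⟨m, hm, rfl⟩
    have hm' := lsum_inj H b hm
    rcases List.perm_pair.1 hm' with h | h <;> subst h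
    · exact Submodule.mem_span_singleton_self _
    · by_cases hij : i = j
      · subst hij; exact Submodule.mem_span_singleton_self _
      · change ⁅b.f j, ⁅b.f i, x₀⁆⁆ ∈ _
        rw [T.f_x₀ hij, lie_zero]; exact Submodule.zero_mem _
  have hlw : lsum H b l = lsum H b [i, j] := by
    rw [lsum, lsum]
    exact (hp.map _).sum_eq
  rw [hlw] at hz
  obtain ⟨r, hr⟩ := Submodule.mem_span_singleton.1 (hsp hz)
  have hz0 : z ≠ 0 := fun h => hzb (h ▸ W'.zero_mem)
  have hij : i ≠ j := by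
    intro hij
    subst hij
    rw [T.f_f_x₀, smul_zero] at hr
    exact hz0 hr.symm
  have hr0 : r ≠ 0 := fun h => hz0 (by rw [← hr, h, zero_smul])
  have hA : b.A i j ≠ 0 := by
    intro hA
    have hp0 : (b.sl2 j).HasPrimitiveVectorWith (b.f i) (0 : K) :=
      ⟨(b.sl2 i).f_ne_zero, by rw [b.lie_h_f, hA, neg_zero, zero_smul, zero_smul],
        b.lie_e_f_ne j i (Ne.symm hij)⟩
    have h := hp0.pow_toEnd_f_eq_zero_of_eq_nat (n := 0) (by rw [Nat.cast_zero])
    have h' : ⁅b.f i, b.f j⁆ = 0 := by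
      rw [← lie_skew, neg_eq_zero]
      simpa using h
    refine hz0 ?_
    rw [← hr, leibniz_lie, h', zero_lie, T.f_x₀ hij, lie_zero, add_zero, smul_zero]
  have hli3 : LinearIndependent K ![x₀, ⁅b.f j, x₀⁆, z] := by
    have := linearIndependent_finSnoc.2 ⟨hli, show z ∉ W' from hzb⟩
    convert this using 1
    funext t
    fin_cases t <;> rfl
  refine ⟨i, z, a 1, hij, hA, ha1, hzW, hli3, ?_, ?_, ?_, hdec.symm⟩
  · refine (Submodule.eq_of_le_of_finrank_le (Submodule.span_le.2 ?_) ?_).symm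
    · rintro _ ⟨t, rfl⟩
      fin_cases t
      exacts [hxW, hyW, hzW]
    · rw [finrank_span_eq_card hli3, hW, Fintype.card_fin]
  · have hfun : (⇑(ρ - b.baseSupp j - b.baseSupp i) : H → K) = ⇑ρ - ⇑(lsum H b [i, j]) := by
      funext h
      simp only [lsum, List.map_cons, List.sum_cons, List.map_nil, List.sum_nil, LinearMap.sub_apply,
        LinearMap.add_apply, LinearMap.zero_apply, Pi.sub_apply]
      ring
    rw [hfun]
    refine le_antisymm (fun x hx => ?_) ((Submodule.span_singleton_le_iff_mem _ _).2 hz)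
    rw [← hr, Submodule.span_singleton_smul_eq hr0.isUnit]
    exact hsp hx
  · rw [← hr, lie_smul, leibniz_lie, b.lie_e_f_ne j i (Ne.symm hij), zero_lie, T.e_y, T.f_x₀ hij,
      add_zero, smul_zero]

end Groth.Agent.AdjVarLib
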